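import Mathlib
import Cfsg.Agent.P4.Kit
import Cfsg.Agent.GT.ThompsonFusion
import Cfsg.Agent.GT.ThompsonFactor

/-! Strong closure of `Z(T₁) T₂` in a Sylow 2-subgroup `T₁ × T₂`. -/

set_option autoImplicit false
set_option linter.unusedSectionVars false

namespace Cfsg.Agent.L5

open Cfsg.Agent.Loc.Mss Subgroup Cfsg.Agent.P4 Cfsg.Agent.GW
open scoped commutatorElement

variable {G T T' : Type*} [Group G] [Group T] [Group T']

/-- An element of odd order which moves `x` by a 2-element it centralizes, centralizes `x`. -/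
theorem fix_of_odd {ρ x c : G} (ho : Odd (orderOf ρ)) (e : ρ * x * ρ⁻¹ = x * c) (hc : Commute ρ c)
    {k : ℕ} (hk : c ^ 2 ^ k = 1) : ρ * x * ρ⁻¹ = x := by
  have h : ∀ n : ℕ, ρ ^ n * x * (ρ ^ n)⁻¹ = x * c ^ n := fun n => by
    induction n with
    | zero => simp
    | succ n ih =>
      calc ρ ^ (n + 1) * x * (ρ ^ (n + 1))⁻¹ = ρ * (ρ ^ n * x * (ρ ^ n)⁻¹) * ρ⁻¹ := by group
        _ = ρ * x * ρ⁻¹ * (ρ * c ^ n * ρ⁻¹) := by rw [ih]; group
        _ = x * c ^ (n + 1) := by rw [e, (hc.pow_right n).eq, pow_succ']; group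
  have h1 : c ^ orderOf ρ = 1 := by simpa using (h (orderOf ρ)).symm
  have h2 : c = 1 := orderOf_eq_one_iff.1 (Nat.eq_one_of_dvd_coprimes
    ((Nat.coprime_two_left.2 ho).pow_left k) (orderOf_dvd_of_pow_eq_one hk) (orderOf_dvd_of_pow_eq_one h1))
  rw [e, h2, mul_one]

/-- An element of odd order centralizing the involutions of an abelian 2-group centralizes it. -/
theorem fix_of_omega {ρ : G} (ho : Odd (orderOf ρ)) {A : Subgroup G} (hA : IsPGroup 2 A) (ab : A ≤ 𝐂[A])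
    (hn : ρ ∈ 𝐍[A]) (h : ∀ v ∈ A, v * v = 1 → ρ * v * ρ⁻¹ = v) {x : G} (hx : x ∈ A) :
    ρ * x * ρ⁻¹ = x := by
  obtain ⟨k, hk⟩ := pg_iff.1 hA x hx
  induction k generalizing x with
  | zero => simp [show x = 1 by simpa using hk]
  | succ k ih =>
    have h1 := ih (mul_mem hx hx) (by rw [← pow_two, ← pow_mul, ← pow_succ', hk])
    have hy := conj_mem_of_norm hn hx
    have hc := mul_mem (inv_mem hx) hy
    have cc : x⁻¹ * (ρ * x * ρ⁻¹) * (x⁻¹ * (ρ * x * ρ⁻¹)) = 1 := by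
      calc _ = x⁻¹ * ((ρ * x * ρ⁻¹) * x⁻¹) * (ρ * x * ρ⁻¹) := by group
        _ = (x * x)⁻¹ * (ρ * (x * x) * ρ⁻¹) := by rw [← mem_cent.1 (ab hy) _ (inv_mem hx)]; group
        _ = 1 := by rw [h1, inv_mul_cancel]
    exact fix_of_odd ho (c := x⁻¹ * (ρ * x * ρ⁻¹)) (by group)
      (mul_inv_eq_iff_eq_mul.1 (h _ hc cc)) (k := 1) (by rw [pow_one, pow_two, cc])

/-- The commutator subgroup is abelian with at most one involution, `z`. -/
structure Cm (z : T) : Prop where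
  ab : ∀ c ∈ commutator T, ∀ d ∈ commutator T, Commute c d
  inv : ∀ c ∈ commutator T, c * c = 1 → c = 1 ∨ c = z

/-- A non-abelian group in which the centralizers of the non-central elements are abelian. -/
structure CA (T : Type*) [Group T] : Prop where
  na : ∃ x y : T, ¬ Commute x y
  ca : ∀ c x y : T, Commute c x → Commute c y → ¬ Commute x y → c ∈ center T

variable [Finite G] {j : T × T' →* G} {z : T} {z' : T'} {B : Subgroup G}

theorem comm_le_prod (hB : B ≤ j.range) : ⁅B, B⁆ ≤ ((commutator T).prod (commutator T')).map j := by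
  refine commutator_le.2 fun x hx y hy => ?_
  obtain ⟨a, rfl⟩ := hB hx
  obtain ⟨b, rfl⟩ := hB hy
  exact ⟨⁅a, b⁆, ⟨commutator_mem_commutator (mem_top a.1) (mem_top b.1),
    commutator_mem_commutator (mem_top a.2) (mem_top b.2)⟩, map_commutatorElement j a b⟩

/-- Elements of odd order of `N(B)` centralize `B'`. -/
theorem fix_comm (hi : Function.Injective j) (hp : IsPGroup 2 j.range) (h : Cm z) (h' : Cm z')
    (hz : j (z, 1) ∈ center G) (hB : B ≤ j.range) {ρ : G} (ho : Odd (orderOf ρ)) (hn : ρ ∈ 𝐍[B]) {x : G}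
    (hx : x ∈ ⁅B, B⁆) : ρ * x * ρ⁻¹ = x := by
  have le := comm_le_prod hB
  have hn' : ρ ∈ 𝐍[⁅B, B⁆] := norm_comm le_rfl le_rfl hn
  have zc : ∀ g, Commute g (j (z, 1)) := fun g => mem_center_iff.1 hz g
  refine fix_of_omega ho (hp.to_le ((comm_le_left le_normalizer).trans hB)) ?_ hn' ?_ hx
  · intro a ha
    refine mem_cent.2 fun b hb => ?_
    obtain ⟨a, ha', rfl⟩ := le ha
    obtain ⟨b, hb', rfl⟩ := le hb
    exact ((Commute.prod (h.ab _ hb'.1 _ ha'.1) (h'.ab _ hb'.2 _ ha'.2)).map j).eq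
  · have key : ∀ v ∈ ⁅B, B⁆, v * v = 1 → v = 1 ∨ v = j (z, 1) ∨ v = j (1, z') ∨ v = j (z, z') := by
      intro v hv vv
      obtain ⟨⟨a, b⟩, ha, rfl⟩ := le hv
      have e : ((a, b) : T × T') * (a, b) = 1 := hi (by rw [map_mul, vv, map_one])
      rcases h.inv a ha.1 (congrArg Prod.fst e) with rfl | rfl <;>
        rcases h'.inv b ha.2 (congrArg Prod.snd e) with rfl | rfl
      exacts [Or.inl (map_one j), Or.inr (Or.inr (Or.inl rfl)), Or.inr (Or.inl rfl),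
        Or.inr (Or.inr (Or.inr rfl))]
    have m : j (z, z') = j (1, z') * j (z, 1) := by rw [← map_mul]; simp
    have c1 : ∀ v, ρ * v * ρ⁻¹ = 1 ∨ ρ * v * ρ⁻¹ = j (z, 1) → ρ * v * ρ⁻¹ = v := by
      rintro v (e | e)
      · rw [e, conj_eq_one_iff.1 e]
      · rw [e, show v = ρ⁻¹ * (ρ * v * ρ⁻¹) * ρ by group, e, (zc ρ⁻¹).eq]; group
    obtain ⟨k, hk⟩ := pg_iff.1 hp (j (z, 1)) ⟨_, rfl⟩
    intro v hv vv
    rcases key _ (conj_mem_of_norm hn' hv) (by rw [conj_mul, vv]; group) with e | e | e | e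
    · exact c1 v (Or.inl e)
    · exact c1 v (Or.inr e)
    all_goals
      rcases key v hv vv with e' | e' | e' | e'
      · exact c1 v (Or.inl (by rw [e']; group))
      · exact c1 v (Or.inr (by rw [e', (zc ρ).eq]; group))
      · first | exact e.trans e'.symm | exact fix_of_odd ho (by rw [e, e', m]) (zc ρ) hk
      · first
        | exact e.trans e'.symm
        | exact fix_of_odd ho (c := (j (z, 1))⁻¹) (by rw [e, e', m]; group) (zc ρ).inv_right (k := k)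
            (by rw [inv_pow, hk, inv_one])

/-- The first projection of a centric radical subgroup is not abelian. -/
theorem not_ab [Finite T] (hi : Function.Injective j) (hT : IsPGroup 2 T) (hp : IsPGroup 2 j.range)
    (h : Cm z) (ca : CA T) (hz : j (z, 1) ∈ center G) (hB : B ≤ j.range) (rad : GT.ThRad 2 j.range B) :
    ∃ x y, j x ∈ B ∧ j y ∈ B ∧ ¬ Commute x.1 y.1 := by
  by_contra! hc
  let B₁ : Subgroup T := (B.comap j).map (MonoidHom.fst T T')
  have cen : ∀ c ∈ B₁, j (c, 1) ∈ 𝐂[B] := by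
    rintro _ ⟨c, hc', rfl⟩
    refine mem_cent.2 fun b hb => ?_
    obtain ⟨b, rfl⟩ := hB hb
    exact ((Commute.prod (x := b) (y := (c.1, 1)) (hc b c hb hc') (Commute.one_right _)).map j).eq
  have mem : ∀ c ∈ B₁, j (c, 1) ∈ B := fun c hc => rad.centric ⟨⟨_, rfl⟩, cen c hc⟩
  have lt : B₁ < ⊤ := lt_top_iff_ne_top.2 fun e => by
    obtain ⟨x, y, n⟩ := ca.na
    obtain ⟨x, hx, rfl⟩ : x ∈ B₁ := e ▸ mem_top x
    obtain ⟨y, hy, rfl⟩ : y ∈ B₁ := e ▸ mem_top y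
    exact n (hc x y hx hy)
  haveI := hT.isNilpotent
  obtain ⟨n, hn, hn'⟩ := SetLike.exists_of_lt (normalizerCondition_of_isNilpotent B₁ lt)
  have cm : ∀ x, j x ∈ B → ⁅j x, j (n, 1)⁆ = j (⁅x.1, n⁆, 1) ∧ ⁅x.1, n⁆ ∈ B₁ := fun x hx => by
    have h1 : x.1 ∈ B₁ := ⟨x, hx, rfl⟩
    refine ⟨by rw [← map_commutatorElement]; congr 1; ext <;> simp [commutatorElement_def], ?_⟩
    rw [commutatorElement_def, mul_assoc, mul_assoc, ← mul_assoc n]
    exact mul_mem h1 (conj_mem_of_norm hn (inv_mem h1))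
  have nz : ∀ X : Subgroup G, X ≤ 𝐍[zpowers (j (z, 1))] := fun X =>
    norm_of_cent fun g _ => mem_cent.2 fun a ha => by
      obtain ⟨k, rfl⟩ := mem_zpowers_iff.1 ha
      exact (Commute.zpow_left (mem_center_iff.1 hz g).symm k).eq
  have nZ : 𝐍[B] ≤ 𝐍[B ⊓ 𝐂[B]] := norm_inf le_rfl (norm_cent le_rfl)
  have hnB : j (n, 1) ∈ 𝐍[B] := mem_norm_of_cj_le (cj_le_iff.2 fun b hb => by
    obtain ⟨b, rfl⟩ := hB hb
    have := mul_mem (inv_mem ((cm b hb).1 ▸ mem _ (cm b hb).2)) hb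
    rwa [commutatorElement_inv, commutatorElement_def, inv_mul_cancel_right] at this)
  have := rad (𝐍[B] ⊓ (cmod B (B ⊓ 𝐂[B]) ⊓ cmod (omegaOne 2 (B ⊓ 𝐂[B])) (zpowers (j (z, 1)))))
    inf_le_left (norm_inf le_normalizer (norm_inf (norm_cmod le_rfl nZ)
      (norm_cmod (norm_omega nZ) (nz _)))) ?_ (x := j (n, 1)) ⟨⟨_, rfl⟩, hnB, ⟨nZ hnB, ?_⟩, nz ⊤ trivial, ?_⟩
  · exact hn' ⟨(n, 1), this, rfl⟩
  · rintro ρ ⟨h1, h2, h3⟩ ho
    have ho : Odd (orderOf ρ) := Nat.coprime_two_right.1 ho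
    have step : ∀ (x : G) (U : Subgroup G), U ≤ B → (∀ u ∈ U, ρ * u * ρ⁻¹ = u) → ⁅x⁻¹, ρ⁆ ∈ U →
        ρ * x * ρ⁻¹ = x := fun x U hU hf hx => by
      obtain ⟨k, hk⟩ := pg_iff.1 (hp.to_le (hU.trans hB)) _ hx
      exact fix_of_odd ho (by rw [commutatorElement_def]; group) (mul_inv_eq_iff_eq_mul.1 (hf _ hx)) hk
    have zB : j (z, 1) ∈ B := rad.centric ⟨⟨_, rfl⟩, center_le_centralizer _ hz⟩
    have f1 : ∀ u ∈ B ⊓ 𝐂[B], ρ * u * ρ⁻¹ = u := fun u hu =>
      fix_of_omega ho (hp.to_le (inf_le_left.trans hB)) (inf_le_right.trans (cent_anti inf_le_left))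
        (nZ h1) (fun v hv vv => step v _ (zpowers_le.2 zB) (fun u hu => by
          obtain ⟨k, rfl⟩ := mem_zpowers_iff.1 hu
          rw [(Commute.zpow_right (mem_center_iff.1 hz ρ) k).eq]; group)
          (h3.2 _ (inv_mem (GT.th_mem_omega_center.2 ⟨hv.1, hv.2, by rw [pow_two, vv]⟩)))) hu
    exact mem_cent.2 fun b hb =>
      (mul_inv_eq_iff_eq_mul.1 (step b _ inf_le_left f1 (h2.2 _ (inv_mem hb)))).symm
  · intro b hb
    obtain ⟨b, rfl⟩ := hB hb
    exact (cm b hb).1 ▸ ⟨mem _ (cm b hb).2, cen _ (cm b hb).2⟩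
  · intro v hv
    obtain ⟨hv, -, vv⟩ := GT.th_mem_omega_center.1 hv
    obtain ⟨v, rfl⟩ := hB hv
    have v1 : v.1 * v.1 = 1 := congrArg Prod.fst (hi (by rw [map_mul, ← pow_two, vv, map_one]) : v * v = 1)
    have vi : v.1⁻¹ = v.1 := inv_eq_of_mul_eq_one_right v1
    obtain ⟨u, hu, e⟩ : n * v.1 * n⁻¹ ∈ B₁ := conj_mem_of_norm hn ⟨v, hv, rfl⟩
    have c : Commute v.1 (n * v.1 * n⁻¹) := e ▸ hc v u hv hu
    rw [(cm v hv).1]
    rcases h.inv ⁅v.1, n⁆ (commutator_mem_commutator (mem_top _) (mem_top _)) (by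
      rw [commutatorElement_def, vi, mul_assoc v.1, mul_assoc v.1, ← pow_two, c.mul_pow, pow_two, v1,
        pow_two, conj_mul, v1]; group) with e | e <;> rw [e]
    exacts [by rw [Prod.mk_one_one, map_one]; exact one_mem _, mem_zpowers _]

/-- `Z(T₁) T₂` is strongly closed if the involution of `T₁'` is central. -/
theorem sc_center [Finite T] (hj : Sy j ⊤ ⊤) (hT : IsPGroup 2 T) (h : Cm z) (h' : Cm z') (ca : CA T)
    (hz : j (z, 1) ∈ center G) {x y : T × T'} (e : Fu j ⊤ x y) (hx : x.1 ∈ center T) :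
    y.1 ∈ center T := by
  have hs : Syl 2 j.range ⊤ := j.range_eq_map ▸ hj.syl
  obtain ⟨P, hP⟩ := hs.exists_sylow_top
  let X : Subgroup G := ((center T).prod ⊤).map j
  have mX : ∀ x, j x ∈ X ↔ x.1 ∈ center T := fun x =>
    ⟨fun ⟨y, hy, e⟩ => hj.inj e ▸ hy.1, fun h => ⟨x, ⟨h, trivial⟩, rfl⟩⟩
  obtain ⟨g, -, hg⟩ := e
  have := GT.th_alperin_rad P (fun A g => ∀ x ∈ A, x ∈ X ↔ g * x * g⁻¹ ∈ X)
    (fun A D g hA h x hx => h x (hA hx))
    (fun A g k h1 h2 x hx => by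
      rw [h1 x hx, h2 _ (conj_mem_cj hx)]; simp only [mul_assoc, mul_inv_rev])
    (fun A g h x hx => by rw [inv_inv, h _ (mem_cj.1 hx)]; simp [mul_assoc])
    (fun A c hc x hx => by rw [← mem_cent.1 hc x hx, mul_inv_cancel_right]) ?_ (zpowers (j x))
    (hP ▸ zpowers_le.2 ⟨_, rfl⟩) g ?_ _ (mem_zpowers _)
  · rw [hg, mX, mX] at this
    exact this.1 hx
  · rw [hP]
    intro B hB hfn rad _ n hn
    obtain ⟨u, v, hu, hv, huv⟩ := not_ab hj.inj hT hs.pg h ca hz hB rad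
    have odd : ∀ ρ ∈ 𝐍[B], Odd (orderOf ρ) → ∀ x ∈ B, x ∈ X → ρ * x * ρ⁻¹ ∈ X := by
      intro ρ hρ ho x hx hX
      obtain ⟨y, hy⟩ := hB (conj_mem_of_norm hρ hx)
      obtain ⟨x, rfl⟩ := hB hx
      have c : ∀ b, j b ∈ B → Commute y.1 b.1 := fun b hb => by
        have hb' := conj_mem_of_norm' hρ hb
        obtain ⟨b', e⟩ := hB hb'
        have e1 := fix_comm hj.inj hs.pg h h' hz hB ho hρ (commutator_mem_commutator hx hb')
        have e2 : ⁅y, b⁆ = ⁅x, b'⁆ := hj.inj (by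
          rw [map_commutatorElement, map_commutatorElement, hy, e, ← e1]
          simp only [commutatorElement_def]; group)
        have e3 : ⁅y.1, b.1⁆ = ⁅x.1, b'.1⁆ := congrArg Prod.fst e2
        rw [← commutatorElement_eq_one_iff_commute, e3, commutatorElement_eq_one_iff_commute]
        exact (mem_center_iff.1 ((mX x).1 hX) _).symm
      exact hy ▸ (mX y).2 (ca.ca _ _ _ (c u hu) (c v hv) huv)
    have le : 𝐍[B] ≤ 𝐍[B ⊓ X] := by
      refine Syl.le_of_res_le (p := 2) ⟨inf_le_right, hs.pg.to_le inf_le_left, hfn⟩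
        (res_le_iff.2 fun ρ hρ ho => mem_norm_of_cj_le (cj_le_iff.2 fun x hx =>
          ⟨conj_mem_of_norm hρ hx.1, odd ρ hρ (Nat.coprime_two_right.1 ho) x hx.1 hx.2⟩))
        (norm_inf inf_le_right (inf_le_left.trans ?_))
      haveI : ((center T).prod (⊤ : Subgroup T')).Normal := prod_normal _ _
      exact j.range_eq_map ▸ map_norm_le j (norm_normal _ _)
    exact fun x hx => ⟨fun hX => (conj_mem_of_norm (le hn) ⟨hx, hX⟩).2, fun hX => by
      simpa [mul_assoc] using (conj_mem_of_norm' (le hn) ⟨conj_mem_of_norm hn hx, hX⟩).2⟩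
  · rintro _ ⟨k, rfl⟩
    rw [hP, ← conj_zpow, hg]
    exact j.range.zpow_mem ⟨_, rfl⟩ k

end Cfsg.Agent.L5
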