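import Mathlib
import Cfsg.Agent.L5.SC

/-! Elementary facts on `SL₂(3)`. -/

set_option autoImplicit false
set_option linter.unusedSectionVars false

namespace Cfsg.Agent.L5

open Cfsg.Agent.Loc.Mss Subgroup
open scoped commutatorElement MatrixGroups

namespace ThA

theorem s12 : ∀ g : SL(2, ZMod 3), g ^ 12 = 1 := by decide +kernel

theorem smul : ∀ g : SL(2, ZMod 3), g ^ 4 = 1 → ∀ g' : SL(2, ZMod 3), g' ^ 4 = 1 →
    (g * g') ^ 4 = 1 ∧ g * g' * g⁻¹ * g'⁻¹ * (g * g' * g⁻¹ * g'⁻¹) = 1 := by decide +kernel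

theorem scard : Fintype.card {g : SL(2, ZMod 3) // g ^ 4 = 1} = 8 := by decide +kernel

theorem sinv : ∀ g : SL(2, ZMod 3), g * g = 1 → g = 1 ∨ g = -1 := by decide +kernel

theorem sna : ∃ g g' : SL(2, ZMod 3), g ^ 4 = 1 ∧ g' ^ 4 = 1 ∧ g * g' ≠ g' * g := by decide +kernel

theorem scen : ∀ c : SL(2, ZMod 3), (∀ g : SL(2, ZMod 3), g ^ 4 = 1 → c * g = g * c) → c * c = 1 := by
  decide +kernel

theorem shalf : ∀ k : SL(2, ZMod 3), k ^ 4 = 1 → k * k ≠ 1 → ∀ g : SL(2, ZMod 3), g ^ 4 = 1 →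
    ∀ g' : SL(2, ZMod 3), g' ^ 4 = 1 → (∃ i : Fin 4, g = k ^ i.1) ∨ (∃ i : Fin 4, g' = k ^ i.1) ∨
      ∃ i : Fin 4, g' = g * k ^ i.1 := by decide +kernel

/-- The quaternion subgroup. -/
def D0 : Subgroup SL(2, ZMod 3) where
  carrier := {g | g ^ 4 = 1}
  one_mem' := one_pow 4
  mul_mem' := fun {a b} ha hb => (smul a ha b hb).1
  inv_mem' := fun {a} ha => by
    change a⁻¹ ^ 4 = 1
    rw [inv_pow, show a ^ 4 = 1 from ha, inv_one]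

theorem mem_D0 {g : SL(2, ZMod 3)} : g ∈ D0 ↔ ∃ n, g ^ 2 ^ n = 1 := by
  refine ⟨fun h => ⟨2, h⟩, fun ⟨n, h⟩ => orderOf_dvd_iff_pow_eq_one.1 ?_⟩
  have h1 : orderOf g ∣ 4 * 3 := orderOf_dvd_of_pow_eq_one (s12 g)
  exact (Nat.Coprime.coprime_dvd_left (orderOf_dvd_of_pow_eq_one h)
    (Nat.Coprime.pow_left n (by norm_num))).dvd_of_dvd_mul_right h1

variable {G : Type*} [Group G] {K D : Subgroup G}

/-- `K` is `SL₂(3)` and `D` is its quaternion subgroup. -/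
structure S3 (K D : Subgroup G) : Prop where
  mem : ∀ g, g ∈ D ↔ g ∈ K ∧ ∃ n, g ^ 2 ^ n = 1
  card : Nat.card D = 8
  four : ∀ g ∈ D, g * g * (g * g) = 1
  inv : ∀ g ∈ K, ∀ g' ∈ K, g * g = 1 → g' * g' = 1 → g' ≠ 1 → g = 1 ∨ g = g'
  na : ∃ g ∈ D, ∃ g' ∈ D, ¬ Commute g g'
  cen : ∀ c ∈ K, (∀ g ∈ D, Commute c g) → c * c = 1
  cm : ∀ g ∈ D, ∀ g' ∈ D, ⁅g, g'⁆ * ⁅g, g'⁆ = 1
  half : ∀ k ∈ D, k * k ≠ 1 → ∀ g ∈ D, ∀ g' ∈ D,
    g ∈ zpowers k ∨ g' ∈ zpowers k ∨ ∃ c ∈ zpowers k, g' = g * c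

theorem exists_s3 (e : SL(2, ZMod 3) ≃* K) : ∃ D, S3 K D := by
  obtain ⟨f, hf, hK⟩ : ∃ f : SL(2, ZMod 3) →* G, Function.Injective f ∧ ∀ g, g ∈ K ↔ ∃ y, f y = g :=
    ⟨K.subtype.comp e.toMonoidHom, K.subtype_injective.comp e.injective, fun g =>
      ⟨fun hg => ⟨e.symm ⟨g, hg⟩, by simp⟩, fun ⟨y, hy⟩ => hy ▸ (e y).2⟩⟩
  have e1 : ∀ {y}, f y = 1 ↔ y = 1 := map_eq_one_iff f hf
  refine ⟨D0.map f, fun g => ⟨?_, ?_⟩, ?_, ?_, ?_, ?_, ?_, ?_, ?_⟩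
  · rintro ⟨y, hy, rfl⟩
    exact ⟨(hK _).2 ⟨y, rfl⟩, 2, by rw [← map_pow, e1]; exact hy⟩
  · rintro ⟨hg, n, hn⟩
    obtain ⟨y, rfl⟩ := (hK g).1 hg
    exact ⟨y, mem_D0.2 ⟨n, by rwa [← map_pow, e1] at hn⟩, rfl⟩
  · rw [card_map_of_injective hf, ← scard, ← Nat.card_eq_fintype_card]
    rfl
  · rintro _ ⟨y, hy, rfl⟩
    rw [← map_mul, ← map_mul, e1, ← show y ^ 4 = 1 from hy]
    simp only [pow_succ, pow_zero, one_mul, mul_assoc]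
  · intro g hg g' hg' h1 h2 h3
    obtain ⟨y, rfl⟩ := (hK g).1 hg
    obtain ⟨y', rfl⟩ := (hK g').1 hg'
    rw [← map_mul, e1] at h1 h2
    rcases sinv y h1 with rfl | rfl
    · exact Or.inl (map_one f)
    · exact Or.inr (by rw [(sinv y' h2).resolve_left fun e => h3 (e1.2 e)])
  · obtain ⟨y, y', hy, hy', hne⟩ := sna
    exact ⟨_, ⟨y, hy, rfl⟩, _, ⟨y', hy', rfl⟩, fun c => hne (hf (by rw [map_mul, map_mul, c.eq]))⟩
  · intro c hc h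
    obtain ⟨y, rfl⟩ := (hK c).1 hc
    rw [← map_mul, e1]
    exact scen y fun g hg => hf (by rw [map_mul, map_mul, (h _ ⟨g, hg, rfl⟩).eq])
  · rintro _ ⟨y, hy, rfl⟩ _ ⟨y', hy', rfl⟩
    rw [← map_commutatorElement, ← map_mul, e1]
    exact (smul y hy y' hy').2
  · rintro _ ⟨k, hk, rfl⟩ k2 _ ⟨y, hy, rfl⟩ _ ⟨y', hy', rfl⟩
    rcases shalf k hk (fun e => k2 (by rw [← map_mul, e, map_one])) y hy y' hy' with
      ⟨i, rfl⟩ | ⟨i, rfl⟩ | ⟨i, rfl⟩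
    · exact Or.inl (by rw [map_pow]; exact pow_mem (mem_zpowers _) _)
    · exact Or.inr (Or.inl (by rw [map_pow]; exact pow_mem (mem_zpowers _) _))
    · exact Or.inr (Or.inr ⟨_, pow_mem (mem_zpowers _) i.1, by rw [map_mul, map_pow]⟩)

theorem S3.le (k : S3 K D) : D ≤ K := fun g hg => ((k.mem g).1 hg).1

theorem S3.pg (k : S3 K D) : IsPGroup 2 D := pg_iff.2 fun g hg => ((k.mem g).1 hg).2

theorem S3.conj (k : S3 K D) {h g : G} (hn : h ∈ 𝐍[K]) (hg : g ∈ D) : h * g * h⁻¹ ∈ D := by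
  obtain ⟨h1, n, h2⟩ := (k.mem g).1 hg
  exact (k.mem _).2 ⟨conj_mem_of_norm hn h1, n, by rw [conj_pow, h2, mul_one, mul_inv_cancel]⟩

theorem S3.norm [Finite G] (k : S3 K D) : 𝐍[K] ≤ 𝐍[D] := fun _ hn =>
  mem_norm_of_cj_le (cj_le_iff.2 fun _ hg => k.conj hn hg)

/-- An element of odd order which normalizes `K` and centralizes an element of order four of `K`
centralizes `K`. -/
theorem S3.cent (k : S3 K D) {h c : G} (ho : Odd (orderOf h)) (hn : h ∈ 𝐍[K]) (hc : c ∈ D)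
    (c2 : c * c ≠ 1) (e : Commute h c) : h ∈ 𝐂[K] := by
  have z1 : ∀ g ∈ zpowers c, Commute h g := by
    rintro _ ⟨i, rfl⟩
    exact e.zpow_right i
  have h1 : ∀ g ∈ D, Commute h g := by
    intro g hg
    rcases k.half c hc c2 g hg _ (k.conj hn hg) with h1 | h1 | ⟨d, hd, h1⟩
    · exact z1 g h1
    · have := ((Commute.refl h).inv_right.mul_right (z1 _ h1)).mul_right (Commute.refl h)
      rwa [show h⁻¹ * (h * g * h⁻¹) * h = g by group] at this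
    · obtain ⟨n, hn⟩ := ((k.mem d).1 (zpowers_le.2 hc hd)).2
      exact mul_inv_eq_iff_eq_mul.1 (fix_of_odd ho h1 (z1 d hd) hn)
  refine mem_cent.2 fun g hg => ?_
  have hd : g⁻¹ * (h * g * h⁻¹) ∈ K := mul_mem (inv_mem hg) (conj_mem_of_norm hn hg)
  have d2 := k.cen _ hd fun d hd' => by
    have e1 := (h1 d hd').inv_left.eq
    have e2 := (h1 _ (k.conj (le_normalizer hg) hd')).eq
    change g⁻¹ * (h * g * h⁻¹) * d = d * (g⁻¹ * (h * g * h⁻¹))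
    calc g⁻¹ * (h * g * h⁻¹) * d = g⁻¹ * h * g * (h⁻¹ * d) := by group
      _ = g⁻¹ * (h * (g * d * g⁻¹)) * g * h⁻¹ := by rw [e1]; group
      _ = _ := by rw [e2]; group
  have h3 : (g⁻¹ * (h * g * h⁻¹)) ^ 2 ^ 1 = 1 := by rw [pow_one, pow_two, d2]
  exact (mul_inv_eq_iff_eq_mul.1 (fix_of_odd ho (mul_inv_cancel_left g _).symm
    (h1 _ ((k.mem _).2 ⟨hd, 1, h3⟩)) h3)).symm

end ThA

end Cfsg.Agent.L5
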